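import Mathlib.LinearAlgebra.Matrix.SpecialLinearGroup
import Mathlib.LinearAlgebra.Matrix.NonsingularInverse
import Mathlib.LinearAlgebra.Matrix.Determinant.Basic
import Mathlib.Tactic.FieldSimp
import Mathlib.Tactic.LinearCombination
import Mathlib.Tactic.FinCases
import Mathlib.Tactic.Ring

/-! Normal forms and factorisations in `SL₃`. -/

namespace CfsgLib.SL3Products

open Matrix

variable {F : Type*} [Field F]

/-- The two normal forms of a non-scalar element of `SL₃`. -/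
def IsNormalForm (N : Matrix (Fin 3) (Fin 3) F) : Prop :=
  (∃ a b : F, N = !![0, 0, 1; 1, 0, b; 0, 1, a]) ∨
    ∃ m n x y e : F, m * e = -1 ∧ N = !![0, m, x; 1, n, y; 0, 0, e]

theorem normal_form_of_basis (G : Matrix (Fin 3) (Fin 3) F) (hG : G.det = 1) (v w : Fin 3 → F)
    (h : (Matrix.of fun i j => ![v, G *ᵥ v, w] j i).det ≠ 0) :
    ∃ P N : Matrix (Fin 3) (Fin 3) F, P.det ≠ 0 ∧ G * P = P * N ∧ IsNormalForm N := by
  set u := G *ᵥ (G *ᵥ v) with hu
  have hcol : ∀ (a b c : Fin 3 → F) (j : Fin 3) (i : Fin 3),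
      (G * (Matrix.of fun i j => ![a, b, c] j i)) i j = (G *ᵥ ![a, b, c] j) i := fun a b c j i => rfl
  have hdetN : ∀ P N : Matrix (Fin 3) (Fin 3) F, P.det ≠ 0 → G * P = P * N → N.det = 1 := by
    intro P N hP hPN
    have := congrArg Matrix.det hPN
    rw [det_mul, det_mul, hG, one_mul] at this
    exact mul_left_cancel₀ hP (by rw [← this, mul_one])
  by_cases hu0 : (Matrix.of fun i j => ![v, G *ᵥ v, u] j i).det = 0
  · set P : Matrix (Fin 3) (Fin 3) F := Matrix.of fun i j => ![v, G *ᵥ v, w] j i with hPdef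
    have hPu : IsUnit P.det := isUnit_iff_ne_zero.2 h
    set z := P⁻¹ *ᵥ u with hz
    set y := P⁻¹ *ᵥ (G *ᵥ w) with hy
    have hz2 : z 2 = 0 := by
      have hmat : (Matrix.of fun i j => ![v, G *ᵥ v, u] j i) = P * !![1, 0, z 0; 0, 1, z 1; 0, 0, z 2] := by
        have hPz : P *ᵥ z = u := by rw [hz, mulVec_mulVec, mul_nonsing_inv _ hPu, one_mulVec]
        ext i j
        have := congrFun hPz i
        simp only [Matrix.mulVec, dotProduct, Fin.sum_univ_three] at this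
        fin_cases j <;> simp [Matrix.mul_apply, Fin.sum_univ_three, hPdef]
        rw [← this]
        simp [hPdef]
      have hdet := congrArg Matrix.det hmat
      rw [hu0, det_mul] at hdet
      have := (mul_eq_zero.1 hdet.symm).resolve_left h
      simpa [det_fin_three] using this
    have hGP : G * P = P * !![0, z 0, y 0; 1, z 1, y 1; 0, 0, y 2] := by
      have hPz : P *ᵥ z = u := by rw [hz, mulVec_mulVec, mul_nonsing_inv _ hPu, one_mulVec]
      have hPy : P *ᵥ y = G *ᵥ w := by rw [hy, mulVec_mulVec, mul_nonsing_inv _ hPu, one_mulVec]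
      ext i j
      have h1 := congrFun hPz i
      have h2 := congrFun hPy i
      simp only [Matrix.mulVec, dotProduct, Fin.sum_univ_three, hz2, mul_zero, add_zero] at h1
      simp only [Matrix.mulVec, dotProduct, Fin.sum_univ_three] at h2
      rw [hPdef, hcol, ← hPdef]
      fin_cases j
      · simp [Matrix.mul_apply, Fin.sum_univ_three, hPdef]
      · simp [Matrix.mul_apply, Fin.sum_univ_three, hPdef] at h1 ⊢
        rw [h1, hu, mulVec_mulVec]
      · simp [Matrix.mul_apply, Fin.sum_univ_three, hPdef] at h2 ⊢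
        rw [h2]
        simp [Matrix.mulVec, dotProduct, Fin.sum_univ_three]
    refine ⟨P, _, h, hGP, Or.inr ⟨z 0, z 1, y 0, y 1, y 2, ?_, rfl⟩⟩
    have := hdetN P _ h hGP
    simp [det_fin_three] at this
    linear_combination -this
  · set P : Matrix (Fin 3) (Fin 3) F := Matrix.of fun i j => ![v, G *ᵥ v, u] j i with hPdef
    have hPu : IsUnit P.det := isUnit_iff_ne_zero.2 hu0
    set z := P⁻¹ *ᵥ (G *ᵥ u) with hz
    have hPz : P *ᵥ z = G *ᵥ u := by rw [hz, mulVec_mulVec, mul_nonsing_inv _ hPu, one_mulVec]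
    have hGP : G * P = P * !![0, 0, z 0; 1, 0, z 1; 0, 1, z 2] := by
      ext i j
      have h1 := congrFun hPz i
      simp only [Matrix.mulVec, dotProduct, Fin.sum_univ_three] at h1
      rw [hPdef, hcol, ← hPdef]
      fin_cases j
      · simp [Matrix.mul_apply, Fin.sum_univ_three, hPdef]
      · simp [Matrix.mul_apply, Fin.sum_univ_three, hPdef, hu]
      · simp [Matrix.mul_apply, Fin.sum_univ_three, hPdef] at h1 ⊢
        rw [h1]
        simp [Matrix.mulVec, dotProduct, Fin.sum_univ_three]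
    have hd := hdetN P _ hu0 hGP
    simp [det_fin_three] at hd
    exact ⟨P, _, hu0, hGP, Or.inl ⟨z 2, z 1, by rw [hd]⟩⟩

theorem exists_normal_form (G : Matrix (Fin 3) (Fin 3) F) (hG : G.det = 1)
    (hns : ∀ r : F, G ≠ Matrix.scalar (Fin 3) r) :
    ∃ P N : Matrix (Fin 3) (Fin 3) F, P.det ≠ 0 ∧ G * P = P * N ∧ IsNormalForm N := by
  by_cases h10 : G 1 0 = 0
  swap
  · exact normal_form_of_basis G hG ![1, 0, 0] ![0, 0, 1]
      (by simp [det_fin_three, Matrix.mulVec, dotProduct, Fin.sum_univ_three, h10])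
  by_cases h20 : G 2 0 = 0
  swap
  · exact normal_form_of_basis G hG ![1, 0, 0] ![0, 1, 0]
      (by simp [det_fin_three, Matrix.mulVec, dotProduct, Fin.sum_univ_three, h20])
  by_cases h01 : G 0 1 = 0
  swap
  · exact normal_form_of_basis G hG ![0, 1, 0] ![0, 0, 1]
      (by simp [det_fin_three, Matrix.mulVec, dotProduct, Fin.sum_univ_three, h01])
  by_cases h21 : G 2 1 = 0
  swap
  · exact normal_form_of_basis G hG ![0, 1, 0] ![1, 0, 0]
      (by simp [det_fin_three, Matrix.mulVec, dotProduct, Fin.sum_univ_three, h21])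
  by_cases h02 : G 0 2 = 0
  swap
  · exact normal_form_of_basis G hG ![0, 0, 1] ![0, 1, 0]
      (by simp [det_fin_three, Matrix.mulVec, dotProduct, Fin.sum_univ_three, h02])
  by_cases h12 : G 1 2 = 0
  swap
  · exact normal_form_of_basis G hG ![0, 0, 1] ![1, 0, 0]
      (by simp [det_fin_three, Matrix.mulVec, dotProduct, Fin.sum_univ_three, h12])
  by_cases hd : G 1 1 = G 0 0
  swap
  · exact normal_form_of_basis G hG ![1, 1, 0] ![0, 0, 1]
      (by
        simp [det_fin_three, Matrix.mulVec, dotProduct, Fin.sum_univ_three, h10, h20, h01, h21]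
        intro h
        exact hd (by linear_combination h))
  by_cases hd' : G 2 2 = G 1 1
  swap
  · exact normal_form_of_basis G hG ![0, 1, 1] ![1, 0, 0]
      (by
        simp [det_fin_three, Matrix.mulVec, dotProduct, Fin.sum_univ_three, h01, h21, h02, h12]
        intro h
        exact hd' (by linear_combination h))
  exfalso
  apply hns (G 0 0)
  ext i j
  fin_cases i <;> fin_cases j <;> simp [h10, h20, h01, h21, h02, h12, hd, hd']

/-- A normal form is similar to a matrix with prescribed leading minors. -/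
theorem exists_minors (N : Matrix (Fin 3) (Fin 3) F) (hN : IsNormalForm N) (d₁ d₂ : F) :
    ∃ P M : Matrix (Fin 3) (Fin 3) F, P.det ≠ 0 ∧ N * P = P * M ∧ M 0 0 = d₁ ∧
      M 0 0 * M 1 1 - M 0 1 * M 1 0 = d₁ * d₂ := by
  rcases hN with ⟨a, b, rfl⟩ | ⟨m, n, x, y, e, hme, rfl⟩
  · set t := -(d₁ * d₂) with ht
    refine ⟨!![1, -d₁, 0; 0, 1, 0; 0, t, 1],
      !![d₁, t + (t * b - d₁) * d₁, 1 + b * d₁;
         1, t * b - d₁, b;
         -t, 1 + t * a - t * (t * b - d₁), a - t * b], by simp [det_fin_three], ?_, by simp, ?_⟩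
    · ext i j
      fin_cases i <;> fin_cases j <;> simp [Matrix.mul_apply, Fin.sum_univ_three] <;> ring
    · simp [ht]; ring
  · have he : e ≠ 0 := by rintro rfl; simp at hme
    set r := (d₁ * d₂ + m + x) / e with hr
    set s := r - d₁ with hs
    refine ⟨!![1, s, r; 0, 1, 0; 0, 1, 1],
      !![d₁, m + x + (s + n + y) * d₁ - e * r, x + (r + y) * d₁ - e * r;
         1, s + n + y, r + y;
         -1, e - (s + n + y), e - (r + y)], by simp [det_fin_three], ?_, by simp, ?_⟩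
    · ext i j
      fin_cases i <;> fin_cases j <;> simp [Matrix.mul_apply, Fin.sum_univ_three, hs] <;> ring
    · have : e * r = d₁ * d₂ + m + x := by rw [hr]; field_simp
      simp
      linear_combination this

/-- `LU` factorisation with prescribed diagonals. -/
theorem exists_lu (M : Matrix (Fin 3) (Fin 3) F) (hM : M.det = 1) (b c : Fin 3 → F)
    (h0 : M 0 0 = b 0 * c 0) (h1 : M 0 0 * M 1 1 - M 0 1 * M 1 0 = (b 0 * c 0) * (b 1 * c 1))
    (hb : b 0 * b 1 * b 2 = 1) (hc : c 0 * c 1 * c 2 = 1) :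
    ∃ L U : Matrix (Fin 3) (Fin 3) F, M = L * U ∧
      (∃ p q r : F, L = !![b 0, 0, 0; p, b 1, 0; q, r, b 2]) ∧
      ∃ p q r : F, U = !![c 0, p, q; 0, c 1, r; 0, 0, c 2] := by
  have hb0 : b 0 ≠ 0 := fun h => by simp [h] at hb
  have hb1 : b 1 ≠ 0 := fun h => by simp [h] at hb
  have hb2 : b 2 ≠ 0 := fun h => by simp [h] at hb
  have hc0 : c 0 ≠ 0 := fun h => by simp [h] at hc
  have hc1 : c 1 ≠ 0 := fun h => by simp [h] at hc
  obtain ⟨l10, hl10⟩ : ∃ l, l * c 0 = M 1 0 := ⟨M 1 0 / c 0, div_mul_cancel₀ _ hc0⟩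
  obtain ⟨l20, hl20⟩ : ∃ l, l * c 0 = M 2 0 := ⟨M 2 0 / c 0, div_mul_cancel₀ _ hc0⟩
  obtain ⟨u01, hu01⟩ : ∃ l, b 0 * l = M 0 1 := ⟨M 0 1 / b 0, mul_div_cancel₀ _ hb0⟩
  obtain ⟨u02, hu02⟩ : ∃ l, b 0 * l = M 0 2 := ⟨M 0 2 / b 0, mul_div_cancel₀ _ hb0⟩
  obtain ⟨l21, hl21⟩ : ∃ l, l20 * u01 + l * c 1 = M 2 1 :=
    ⟨(M 2 1 - l20 * u01) / c 1, by rw [div_mul_cancel₀ _ hc1]; ring⟩
  obtain ⟨u12, hu12⟩ : ∃ l, l10 * u02 + b 1 * l = M 1 2 :=
    ⟨(M 1 2 - l10 * u02) / b 1, by rw [mul_div_cancel₀ _ hb1]; ring⟩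
  obtain ⟨u22, hu22⟩ : ∃ l, l20 * u02 + l21 * u12 + b 2 * l = M 2 2 :=
    ⟨(M 2 2 - l20 * u02 - l21 * u12) / b 2, by rw [mul_div_cancel₀ _ hb2]; ring⟩
  have h11 : l10 * u01 + b 1 * c 1 = M 1 1 := by
    rw [← hu01, ← hl10, h0] at h1
    apply mul_left_cancel₀ (mul_ne_zero hb0 hc0)
    linear_combination -h1
  have hLU : M = !![b 0, 0, 0; l10, b 1, 0; l20, l21, b 2] * !![c 0, u01, u02; 0, c 1, u12; 0, 0, u22] := by
    ext i j
    fin_cases i <;> fin_cases j <;>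
      simp [Matrix.mul_apply, Fin.sum_univ_three, h0, hl10, hl20, hu01, hu02, hl21, hu12, hu22, h11]
  have hu : u22 = c 2 := by
    have := congrArg Matrix.det hLU
    rw [hM, det_mul] at this
    simp [det_fin_three] at this
    have h2 : (b 0 * b 1 * b 2) * (c 0 * c 1 * u22) = (b 0 * b 1 * b 2) * (c 0 * c 1 * c 2) := by
      rw [hc, hb]; linear_combination -this + (c 0 * c 1 * u22) * hb * 0 + (-(c 0 * c 1 * u22)) * hb
    rw [hb, one_mul, one_mul] at h2
    exact mul_left_cancel₀ (mul_ne_zero hc0 hc1) h2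
  rw [hu] at hLU
  exact ⟨_, _, hLU, ⟨l10, l20, l21, rfl⟩, u01, u02, u12, rfl⟩

theorem lower_conj_diag {β₀ β₁ β₂ : F} (h01 : β₀ ≠ β₁) (h12 : β₁ ≠ β₂) (h02 : β₀ ≠ β₂) (p q r : F) :
    ∃ Q : Matrix (Fin 3) (Fin 3) F, Q.det = 1 ∧
      !![β₀, 0, 0; p, β₁, 0; q, r, β₂] * Q = Q * Matrix.diagonal ![β₀, β₁, β₂] := by
  obtain ⟨a, ha⟩ : ∃ a, a * (β₀ - β₁) = p := ⟨p / (β₀ - β₁), div_mul_cancel₀ _ (sub_ne_zero.2 h01)⟩
  obtain ⟨c, hc⟩ : ∃ a, a * (β₁ - β₂) = r := ⟨r / (β₁ - β₂), div_mul_cancel₀ _ (sub_ne_zero.2 h12)⟩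
  obtain ⟨b, hb⟩ : ∃ b, b * (β₀ - β₂) = q + r * a :=
    ⟨(q + r * a) / (β₀ - β₂), div_mul_cancel₀ _ (sub_ne_zero.2 h02)⟩
  refine ⟨!![1, 0, 0; a, 1, 0; b, c, 1], by simp [det_fin_three], ?_⟩
  ext i j
  fin_cases i <;> fin_cases j <;> simp [Matrix.mul_apply, Fin.sum_univ_three] <;>
    first
      | ring1
      | linear_combination -ha
      | linear_combination -hb
      | linear_combination -hc

theorem upper_conj_diag {β₀ β₁ β₂ : F} (h01 : β₀ ≠ β₁) (h12 : β₁ ≠ β₂) (h02 : β₀ ≠ β₂) (p q r : F) :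
    ∃ Q : Matrix (Fin 3) (Fin 3) F, Q.det = 1 ∧
      !![β₀, p, q; 0, β₁, r; 0, 0, β₂] * Q = Q * Matrix.diagonal ![β₀, β₁, β₂] := by
  obtain ⟨a, ha⟩ : ∃ a, a * (β₁ - β₀) = p := ⟨p / (β₁ - β₀), div_mul_cancel₀ _ (sub_ne_zero.2 h01.symm)⟩
  obtain ⟨c, hc⟩ : ∃ a, a * (β₂ - β₁) = r := ⟨r / (β₂ - β₁), div_mul_cancel₀ _ (sub_ne_zero.2 h12.symm)⟩
  obtain ⟨b, hb⟩ : ∃ b, b * (β₂ - β₀) = p * c + q :=
    ⟨(p * c + q) / (β₂ - β₀), div_mul_cancel₀ _ (sub_ne_zero.2 h02.symm)⟩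
  refine ⟨!![1, a, b; 0, 1, c; 0, 0, 1], by simp [det_fin_three], ?_⟩
  ext i j
  fin_cases i <;> fin_cases j <;> simp [Matrix.mul_apply, Fin.sum_univ_three] <;>
    first
      | ring1
      | linear_combination -ha
      | linear_combination -hb
      | linear_combination -hc

/-- If `N * P = P * D` with `D` diagonal then `N` is a conjugate of `D` inside `SL₃`. -/
theorem isConj_diag (D N : SpecialLinearGroup (Fin 3) F) (d : Fin 3 → F)
    (hD : (D : Matrix (Fin 3) (Fin 3) F) = Matrix.diagonal d) (P : Matrix (Fin 3) (Fin 3) F)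
    (hP : P.det ≠ 0) (h : (N : Matrix (Fin 3) (Fin 3) F) * P = P * Matrix.diagonal d) :
    ∃ U : SpecialLinearGroup (Fin 3) F, N = U * D * U⁻¹ := by
  let S : Matrix (Fin 3) (Fin 3) F := Matrix.diagonal ![P.det⁻¹, 1, 1]
  let U : SpecialLinearGroup (Fin 3) F := ⟨P * S, by
    simp [S, det_mul, det_diagonal, Fin.prod_univ_three, mul_inv_cancel₀ hP]⟩
  refine ⟨U, eq_mul_inv_of_mul_eq (Subtype.ext ?_)⟩
  rw [SpecialLinearGroup.coe_mul, SpecialLinearGroup.coe_mul, hD]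
  show (N : Matrix (Fin 3) (Fin 3) F) * (P * S) = P * S * Matrix.diagonal d
  rw [← mul_assoc, h, mul_assoc, mul_assoc]
  congr 1
  simp only [S, diagonal_mul_diagonal]
  congr 1
  funext i
  ring

/-- Sourour's factorisation for `n = 3`, equal spectra. -/
theorem exists_factor (D G : SpecialLinearGroup (Fin 3) F) (β₀ β₁ β₂ : F)
    (hD : (D : Matrix (Fin 3) (Fin 3) F) = Matrix.diagonal ![β₀, β₁, β₂])
    (h01 : β₀ ≠ β₁) (h12 : β₁ ≠ β₂) (h02 : β₀ ≠ β₂)
    (hG : ∀ r : F, (G : Matrix (Fin 3) (Fin 3) F) ≠ Matrix.scalar (Fin 3) r) :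
    ∃ U V : SpecialLinearGroup (Fin 3) F, G = U * D * U⁻¹ * (V * D * V⁻¹) := by
  have hdetD : β₀ * β₁ * β₂ = 1 := by
    have := D.det_coe
    rw [hD, det_diagonal, Fin.prod_univ_three] at this
    simpa using this
  obtain ⟨P, N, hP, hGP, hN⟩ := exists_normal_form _ G.det_coe hG
  obtain ⟨P', M, hP', hNP, hM0, hM1⟩ := exists_minors N hN (β₀ * β₀) (β₁ * β₁)
  set R := P * P' with hR
  have hRdet : R.det ≠ 0 := by rw [hR, det_mul]; exact mul_ne_zero hP hP'
  have hGR : (G : Matrix (Fin 3) (Fin 3) F) * R = R * M := by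
    rw [hR, ← mul_assoc, hGP, mul_assoc, hNP, mul_assoc]
  have hMdet : M.det = 1 := by
    have := congrArg Matrix.det hGR
    rw [det_mul (G : Matrix (Fin 3) (Fin 3) F) R, det_mul R M, G.det_coe, one_mul] at this
    exact mul_left_cancel₀ hRdet (this.symm.trans (mul_one _).symm)
  obtain ⟨L, U, hLU, ⟨p, q, r, hL⟩, ⟨p', q', r', hU⟩⟩ := exists_lu M hMdet ![β₀, β₁, β₂] ![β₀, β₁, β₂]
    (by simpa using hM0) (by simpa using hM1) (by simpa using hdetD) (by simpa using hdetD)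
  simp at hL hU
  obtain ⟨Q, hQ, hLQ⟩ := lower_conj_diag h01 h12 h02 p q r
  obtain ⟨Q', hQ', hUQ⟩ := upper_conj_diag h01 h12 h02 p' q' r'
  rw [← hL] at hLQ
  rw [← hU] at hUQ
  have hRu := isUnit_iff_ne_zero.2 hRdet
  have hLdet : L.det = 1 := by
    rw [hL]; simp [det_fin_three]; linear_combination hdetD
  have hconj : ∀ X : Matrix (Fin 3) (Fin 3) F, X.det = 1 → (R * X * R⁻¹).det = 1 := by
    intro X hX
    rw [det_mul, det_mul, hX, mul_one, ← det_mul, mul_nonsing_inv _ hRu, det_one]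
  have hUdet : U.det = 1 := by
    rw [hU]; simp [det_fin_three]; linear_combination hdetD
  let A : SpecialLinearGroup (Fin 3) F := ⟨R * L * R⁻¹, hconj L hLdet⟩
  let B : SpecialLinearGroup (Fin 3) F := ⟨R * U * R⁻¹, hconj U hUdet⟩
  have hne : ∀ Z : Matrix (Fin 3) (Fin 3) F, Z.det = 1 → (R * Z).det ≠ 0 := fun Z hZ => by
    rw [det_mul, hZ, mul_one]; exact hRdet
  obtain ⟨U₁, hU₁⟩ := isConj_diag D A _ hD (R * Q) (hne Q hQ) (by
    show R * L * R⁻¹ * (R * Q) = _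
    simp only [mul_assoc]
    rw [nonsing_inv_mul_cancel_left _ _ hRu, hLQ])
  obtain ⟨V₁, hV₁⟩ := isConj_diag D B _ hD (R * Q') (hne Q' hQ') (by
    show R * U * R⁻¹ * (R * Q') = _
    simp only [mul_assoc]
    rw [nonsing_inv_mul_cancel_left _ _ hRu, hUQ])
  refine ⟨U₁, V₁, ?_⟩
  rw [← hU₁, ← hV₁]
  apply Subtype.ext
  rw [SpecialLinearGroup.coe_mul]
  show (G : Matrix (Fin 3) (Fin 3) F) = R * L * R⁻¹ * (R * U * R⁻¹)
  calc (G : Matrix (Fin 3) (Fin 3) F) = (G : Matrix (Fin 3) (Fin 3) F) * R * R⁻¹ := by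
        rw [mul_assoc, mul_nonsing_inv _ hRu, mul_one]
    _ = R * (L * U) * R⁻¹ := by rw [hGR, hLU]
    _ = _ := by
        simp only [mul_assoc]
        rw [nonsing_inv_mul_cancel_left _ _ hRu]

end CfsgLib.SL3Products
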