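import Cfsg.Agent.Lib.SL3Products.Basic
import Mathlib.Data.ZMod.Basic
import Mathlib.Algebra.Field.ZMod

/-! The field with three elements: every normal form is a product of two conjugates of one element of
order four. -/

namespace CfsgLib.SL3Products

/-- A matrix from the list of its entries. -/
def matOfList (l : List ℕ) : Matrix (Fin 3) (Fin 3) (ZMod 3) :=
  Matrix.of fun i j => ((l.getD (3 * i.val + j.val) 0 : ℕ) : ZMod 3)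

/-- The chosen element of order four. -/
def x3 : Matrix (Fin 3) (Fin 3) (ZMod 3) := matOfList [0, 0, 1, 0, 1, 0, 2, 0, 0]

def tableA : List (List ℕ × List ℕ) := [([0, 0, 1, 0, 1, 0, 2, 0, 0], [0, 0, 1, 1, 0, 0, 0, 1, 0]), ([0, 0, 1, 0, 1, 0, 2, 0, 0], [0, 1, 1, 1, 2, 0, 0, 1, 0]), ([0, 0, 1, 0, 1, 0, 2, 0, 0], [0, 2, 1, 1, 1, 0, 0, 1, 0]), ([0, 0, 1, 0, 1, 0, 2, 0, 0], [0, 1, 1, 1, 1, 0, 0, 1, 0]), ([0, 0, 1, 0, 1, 0, 2, 0, 0], [0, 2, 1, 1, 0, 0, 0, 1, 0]), ([0, 0, 1, 0, 1, 0, 2, 0, 0], [0, 0, 1, 1, 2, 0, 0, 1, 0]), ([0, 0, 1, 0, 1, 0, 2, 0, 0], [0, 2, 1, 1, 2, 0, 0, 1, 0]), ([0, 0, 1, 0, 1, 0, 2, 0, 0], [0, 0, 1, 1, 1, 0, 0, 1, 0]), ([0, 0, 1, 0, 1, 0, 2, 0, 0], [0, 1, 1, 1, 0, 0, 0, 1, 0])]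

def tableB : List (List ℕ × List ℕ) := [([], []), ([], []), ([], []), ([], []), ([], []), ([], []), ([], []), ([], []), ([], []), ([], []), ([], []), ([], []), ([], []), ([], []), ([], []), ([], []), ([], []), ([], []), ([], []), ([], []), ([], []), ([], []), ([], []), ([], []), ([], []), ([], []), ([], []), ([], []), ([], []), ([], []), ([], []), ([], []), ([], []), ([], []), ([], []), ([], []), ([], []), ([], []), ([], []), ([], []), ([], []), ([], []), ([], []), ([], []), ([], []), ([], []), ([], []), ([], []), ([], []), ([], []), ([], []), ([], []), ([], []), ([], []), ([], []), ([], []), ([], []), ([], []), ([], []), ([], []), ([], []), ([], []), ([], []), ([], []), ([], []), ([], []), ([], []), ([], []), ([], []), ([], []), ([], []), ([], []), ([], []), ([], []), ([], []), ([], []), ([], []),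 ([], []), ([], []), ([], []), ([], []), ([], []), ([], []), ([0, 0, 1, 0, 1, 2, 2, 0, 0], [0, 2, 1, 0, 2, 2, 2, 2, 0]), ([], []), ([], []), ([0, 0, 1, 0, 1, 0, 2, 2, 1], [0, 1, 1, 2, 2, 1, 2, 1, 1]), ([], []), ([], []), ([0, 0, 1, 0, 1, 0, 2, 0, 1], [0, 1, 1, 0, 0, 2, 2, 1, 1]), ([], []), ([], []), ([0, 0, 1, 0, 1, 0, 2, 0, 2], [0, 0, 1, 1, 0, 0, 2, 1, 2]), ([], []), ([], []), ([0, 0, 1, 1, 0, 0, 2, 1, 2], [0, 1, 1, 1, 0, 0, 2, 0, 2]), ([], []), ([], []), ([0, 0, 1, 0, 1, 0, 2, 0, 0], [0, 2, 1, 1, 0, 2, 2, 2, 0]), ([], []), ([], []), ([0, 0, 1, 0, 1, 0, 2, 1, 2], [0, 1, 1, 1, 1, 0, 0, 2, 1]), ([], []), ([], []), ([0, 0, 1, 0, 1, 1, 2, 0, 0], [0, 2, 1, 2, 1, 2, 2, 2, 0]), ([], []), ([], []), ([0, 0, 1, 1, 0, 0, 1, 1, 1], [0, 2, 1, 1, 0, 0, 1, 0, 1]), ([], []), ([], []), ([0, 0, 1, 0, 1, 0, 2, 2, 1],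 [0, 0, 1, 2, 1, 1, 2, 0, 1]), ([], []), ([], []), ([0, 0, 1, 0, 1, 1, 2, 0, 2], [0, 0, 1, 0, 1, 2, 2, 1, 2]), ([], []), ([], []), ([0, 0, 1, 0, 1, 0, 2, 0, 0], [0, 2, 1, 0, 2, 2, 2, 2, 0]), ([], []), ([], []), ([0, 0, 1, 0, 1, 0, 2, 2, 0], [0, 0, 1, 2, 1, 1, 1, 1, 2]), ([], []), ([], []), ([0, 0, 1, 0, 1, 0, 2, 2, 1], [0, 0, 1, 0, 1, 1, 2, 0, 1]), ([], []), ([], []), ([0, 0, 1, 0, 1, 0, 2, 0, 1], [0, 1, 1, 1, 2, 1, 2, 1, 1]), ([], []), ([], []), ([0, 0, 1, 0, 1, 0, 2, 0, 2], [0, 0, 1, 2, 2, 1, 2, 1, 2]), ([], []), ([], []), ([0, 0, 1, 0, 1, 1, 2, 2, 1], [0, 1, 1, 0, 1, 0, 2, 1, 1]), ([], []), ([], []), ([0, 0, 1, 0, 1, 0, 2, 2, 1], [0, 0, 1, 1, 1, 1, 2, 0, 1]), ([], []), ([], []), ([0, 0, 1, 0, 1, 0, 2, 2, 0], [0, 2, 1, 2, 1, 2, 0, 0, 2]), ([], []), ([], []), ([0, 0, 1, 0, 1, 0, 2, 1, 0], [0, 0, 1,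 2, 2, 0, 2, 1, 1]), ([], []), ([], []), ([0, 0, 1, 0, 1, 0, 2, 0, 2], [0, 0, 1, 0, 1, 2, 2, 1, 2]), ([], []), ([], []), ([0, 0, 1, 0, 1, 0, 2, 1, 2], [0, 0, 1, 2, 0, 2, 0, 2, 2]), ([], []), ([], []), ([0, 0, 1, 0, 1, 0, 2, 2, 0], [0, 1, 1, 2, 2, 1, 1, 0, 2]), ([], []), ([], []), ([0, 0, 1, 0, 1, 1, 2, 2, 1], [0, 0, 1, 2, 1, 0, 2, 0, 1]), ([], []), ([], []), ([0, 0, 1, 0, 1, 0, 2, 0, 0], [0, 2, 1, 2, 1, 2, 2, 2, 0]), ([], []), ([], []), ([0, 0, 1, 0, 1, 0, 2, 0, 1], [0, 1, 1, 2, 1, 0, 2, 1, 1]), ([], []), ([], []), ([0, 0, 1, 0, 1, 0, 2, 2, 0], [0, 2, 1, 0, 1, 1, 1, 0, 0]), ([], []), ([0, 0, 1, 0, 1, 0, 2, 1, 0], [0, 1, 1, 1, 1, 0, 1, 0, 1]), ([], []), ([], []), ([0, 0, 1, 0, 1, 0, 2, 0, 2], [0, 2, 1, 0, 0, 2, 1, 1, 2]), ([], []), ([], []), ([0, 0, 1, 0, 1, 1, 2, 0, 0], [0, 1, 1, 0, 1, 2, 1, 2, 0]),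 ([], []), ([], []), ([0, 0, 1, 0, 1, 0, 2, 0, 1], [0, 0, 1, 1, 0, 0, 1, 1, 1]), ([], []), ([], []), ([0, 0, 1, 0, 1, 0, 2, 0, 0], [0, 1, 1, 1, 0, 2, 1, 2, 0]), ([], []), ([], []), ([0, 0, 1, 0, 1, 0, 2, 1, 0], [0, 1, 1, 2, 1, 2, 2, 0, 2]), ([], []), ([], []), ([0, 0, 1, 0, 1, 1, 2, 1, 1], [0, 0, 1, 1, 2, 2, 1, 0, 1]), ([], []), ([], []), ([0, 0, 1, 0, 1, 0, 2, 1, 0], [0, 1, 0, 1, 1, 1, 2, 0, 1]), ([], []), ([], []), ([0, 0, 1, 0, 1, 0, 2, 2, 1], [0, 0, 1, 0, 2, 1, 1, 1, 1]), ([], []), ([], []), ([0, 0, 1, 0, 1, 0, 2, 1, 1], [0, 0, 1, 2, 2, 1, 1, 0, 1]), ([], []), ([], []), ([0, 0, 1, 0, 1, 0, 2, 0, 0], [0, 1, 1, 0, 1, 2, 1, 2, 0]), ([], []), ([], []), ([0, 0, 1, 0, 1, 0, 2, 2, 0], [0, 2, 1, 1, 2, 2, 0, 2, 2]), ([], []), ([], []), ([0, 0, 1, 0, 1, 0, 2, 2, 1], [0, 0, 1, 2, 0, 1, 1, 2, 1]), ([], []),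 ([], []), ([0, 0, 1, 0, 1, 0, 2, 0, 2], [0, 2, 1, 1, 1, 1, 1, 1, 2]), ([], []), ([], []), ([0, 0, 1, 0, 1, 0, 2, 1, 1], [0, 0, 1, 2, 2, 2, 1, 0, 1]), ([], []), ([], []), ([0, 0, 1, 0, 1, 0, 2, 0, 1], [0, 0, 1, 2, 1, 1, 1, 1, 1]), ([], []), ([], []), ([0, 0, 1, 0, 1, 0, 2, 1, 1], [0, 0, 1, 2, 2, 0, 1, 0, 1]), ([], []), ([], []), ([0, 0, 1, 0, 1, 0, 2, 1, 2], [0, 2, 1, 1, 1, 2, 0, 2, 2]), ([], []), ([], []), ([0, 0, 1, 0, 1, 2, 2, 0, 0], [0, 1, 1, 0, 1, 2, 1, 2, 0]), ([], []), ([], []), ([0, 0, 1, 0, 1, 0, 2, 0, 1], [0, 0, 1, 0, 2, 2, 1, 1, 1]), ([], []), ([], []), ([0, 0, 1, 0, 1, 1, 2, 0, 1], [0, 0, 1, 0, 2, 2, 1, 1, 1]), ([], []), ([], []), ([0, 0, 1, 0, 1, 0, 2, 1, 0], [0, 1, 1, 2, 2, 2, 2, 1, 2]), ([], []), ([], []), ([0, 0, 1, 0, 1, 0, 2, 2, 0], [0, 2, 1, 0, 0, 1, 2, 1, 0]), ([], []), ([], []),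 ([0, 0, 1, 1, 0, 0, 1, 1, 1], [0, 1, 1, 2, 0, 0, 2, 0, 1]), ([], []), ([], []), ([0, 0, 1, 0, 1, 0, 2, 0, 0], [0, 1, 1, 2, 2, 2, 1, 2, 0]), ([], []), ([], []), ([0, 0, 1, 1, 0, 0, 2, 1, 2], [0, 2, 1, 2, 0, 0, 1, 0, 2]), ([], []), ([], []), ([0, 0, 1, 0, 1, 0, 2, 0, 2], [0, 2, 1, 2, 2, 0, 1, 1, 2]), ([], [])]

/-- The adjugate, by formula. -/
def adj3 (M : Matrix (Fin 3) (Fin 3) (ZMod 3)) : Matrix (Fin 3) (Fin 3) (ZMod 3) :=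
  !![M 1 1 * M 2 2 - M 1 2 * M 2 1, M 0 2 * M 2 1 - M 0 1 * M 2 2, M 0 1 * M 1 2 - M 0 2 * M 1 1;
     M 1 2 * M 2 0 - M 1 0 * M 2 2, M 0 0 * M 2 2 - M 0 2 * M 2 0, M 0 2 * M 1 0 - M 0 0 * M 1 2;
     M 1 0 * M 2 1 - M 1 1 * M 2 0, M 0 1 * M 2 0 - M 0 0 * M 2 1, M 0 0 * M 1 1 - M 0 1 * M 1 0]

/-- Check of one certificate. -/
def Cert (N : Matrix (Fin 3) (Fin 3) (ZMod 3)) (t : List ℕ × List ℕ) : Prop :=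
  matOfList t.1 * adj3 (matOfList t.1) = 1 ∧ matOfList t.2 * adj3 (matOfList t.2) = 1 ∧
    N * matOfList t.2 = matOfList t.1 * x3 * adj3 (matOfList t.1) * matOfList t.2 * x3

instance certDecidable (N : Matrix (Fin 3) (Fin 3) (ZMod 3)) (t : List ℕ × List ℕ) :
    Decidable (Cert N t) := inferInstanceAs (Decidable (_ ∧ _ ∧ _))

theorem certA : ∀ a b : ZMod 3,
    Cert !![0, 0, 1; 1, 0, b; 0, 1, a] (tableA.getD (3 * a.val + b.val) ([], [])) := by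
  decide +kernel

theorem certB : ∀ m n x y e : ZMod 3, m * e = -1 →
    Cert !![0, m, x; 1, n, y; 0, 0, e]
      (tableB.getD (81 * m.val + 27 * n.val + 9 * x.val + 3 * y.val + e.val) ([], [])) := by
  decide +kernel

theorem x3_det : x3.det = 1 := by decide +kernel

theorem x3_pow : x3 * x3 * (x3 * x3) = 1 := by decide +kernel

theorem det_of_cert {M : Matrix (Fin 3) (Fin 3) (ZMod 3)} (h : M * adj3 M = 1) : M.det = 1 := by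
  have := congrFun (congrFun h 0) 0
  simp [Matrix.mul_apply, Fin.sum_univ_three, adj3] at this
  rw [Matrix.det_fin_three]
  linear_combination this

end CfsgLib.SL3Products
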